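import Groth.Agent.FundLocal.ConormalOmega
import Mathlib.LinearAlgebra.ExteriorPower.Basis
import Mathlib.LinearAlgebra.ExteriorAlgebra.Grading

/-!
# The perfect pairing of complementary exterior powers
-/

set_option autoImplicit false
universe u

open Module Set.powersetCard

namespace Groth.Agent.HodgeSym

variable {R : Type u} [CommRing R] {M : Type u} [AddCommGroup M] [Module R M] {p q n : ℕ}

/-- The product of exterior powers. -/
noncomputable def mulExt (h : q + p = n) : ⋀[R]^q M →ₗ[R] ⋀[R]^p M →ₗ[R] ⋀[R]^n M :=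
  LinearMap.mk₂ R
    (fun x y => ⟨(x : ExteriorAlgebra R M) * (y : ExteriorAlgebra R M), by
      subst h
      show _ ∈ LinearMap.range (ExteriorAlgebra.ι R : M →ₗ[R] ExteriorAlgebra R M) ^ (q + p)
      rw [pow_add]
      exact Submodule.mul_mem_mul x.2 y.2⟩)
    (fun _ _ _ => Subtype.ext (add_mul _ _ _)) (fun _ _ _ => Subtype.ext (smul_mul_assoc _ _ _))
    (fun _ _ _ => Subtype.ext (mul_add _ _ _)) (fun _ _ _ => Subtype.ext (mul_smul_comm _ _ _))

/-- The juxtaposition of two families. -/
def join (h : q + p = n) {α : Type*} (a : Fin q → α) (c : Fin p → α) : Fin n → α :=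
  Fin.append a c ∘ Fin.cast h.symm

lemma mulExt_ιMulti (h : q + p = n) (a : Fin q → M) (c : Fin p → M) :
    mulExt h (exteriorPower.ιMulti R q a) (exteriorPower.ιMulti R p c) = exteriorPower.ιMulti R n (join h a c) := by
  subst h
  apply Subtype.ext
  show ExteriorAlgebra.ιMulti R q a * ExteriorAlgebra.ιMulti R p c = ExteriorAlgebra.ιMulti R (q + p) (Fin.append a c)
  rw [ExteriorAlgebra.ιMulti_apply, ExteriorAlgebra.ιMulti_apply, ExteriorAlgebra.ιMulti_apply, ← List.prod_append,
    ← List.ofFn_fin_append]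
  refine congrArg (fun l => List.prod (List.ofFn l)) (funext fun i => ?_)
  refine Fin.addCases (fun j => ?_) (fun j => ?_) i <;> simp

/-- The complement of an index set. -/
def cpl (h : q + p = n) : Set.powersetCard (Fin n) q ≃ Set.powersetCard (Fin n) p where
  toFun t := ⟨(t : Finset (Fin n))ᶜ, by
    have ht : (t : Finset (Fin n)).card = q := Set.powersetCard.mem_iff.1 t.2
    refine Set.powersetCard.mem_iff.2 ?_
    rw [Finset.card_compl, Fintype.card_fin, ht]; omega⟩
  invFun s := ⟨(s : Finset (Fin n))ᶜ, by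
    have hs : (s : Finset (Fin n)).card = p := Set.powersetCard.mem_iff.1 s.2
    refine Set.powersetCard.mem_iff.2 ?_
    rw [Finset.card_compl, Fintype.card_fin, hs]; omega⟩
  left_inv t := Subtype.ext (compl_compl _)
  right_inv s := Subtype.ext (compl_compl _)

variable (b : Basis (Fin n) R M)

lemma mulExt_family_ne (h : q + p = n) (t : Set.powersetCard (Fin n) q) (s : Set.powersetCard (Fin n) p)
    (hne : s ≠ cpl h t) :
    mulExt h (exteriorPower.ιMulti_family R q b t) (exteriorPower.ιMulti_family R p b s) = 0 := by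
  have hmeet : ∃ i, i ∈ (s : Finset (Fin n)) ∧ i ∈ (t : Finset (Fin n)) := by
    by_contra hc
    refine hne (Subtype.ext (Finset.eq_of_subset_of_card_le (fun i hi => Finset.mem_compl.2 fun hit => hc ⟨i, hi, hit⟩) ?_))
    exact le_of_eq ((Set.powersetCard.mem_iff.1 (cpl h t).2).trans (Set.powersetCard.mem_iff.1 s.2).symm)
  obtain ⟨i, his, hit⟩ := hmeet
  obtain ⟨x, hx⟩ := (mem_range_ofFinEmbEquiv_symm_iff_mem t i).mpr hit
  obtain ⟨y, hy⟩ := (mem_range_ofFinEmbEquiv_symm_iff_mem s i).mpr his
  rw [exteriorPower.ιMulti_family, exteriorPower.ιMulti_family, mulExt_ιMulti]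
  refine (exteriorPower.ιMulti R n).map_eq_zero_of_eq _
    (i := Fin.cast h (Fin.castAdd p x)) (j := Fin.cast h (Fin.natAdd q y)) ?_ ?_
  · simp [join, hx, hy]
  · intro he
    have := congrArg Fin.val he
    simp at this
    omega

lemma exists_mulExt_cpl (h : q + p = n) (t : Set.powersetCard (Fin n) q) : ∃ u : Rˣ,
    mulExt h (exteriorPower.ιMulti_family R q b t) (exteriorPower.ιMulti_family R p b (cpl h t)) =
      (u : R) • exteriorPower.ιMulti R n ⇑b := by
  let g : Fin n → Fin n := join h (ofFinEmbEquiv.symm t) (ofFinEmbEquiv.symm (cpl h t))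
  have hg : Function.Bijective g := by
    refine Finite.surjective_iff_bijective.1 fun i => ?_
    by_cases hi : i ∈ (t : Finset (Fin n))
    · obtain ⟨x, hx⟩ := (mem_range_ofFinEmbEquiv_symm_iff_mem t i).mpr hi
      exact ⟨Fin.cast h (Fin.castAdd p x), by simp [g, join, hx]⟩
    · obtain ⟨y, hy⟩ := (mem_range_ofFinEmbEquiv_symm_iff_mem (cpl h t) i).mpr (Finset.mem_compl.2 hi)
      exact ⟨Fin.cast h (Fin.natAdd q y), by simp [g, join, hy]⟩
  refine ⟨((Equiv.Perm.sign (Equiv.ofBijective g hg) : ℤˣ).map (Int.castRingHom R).toMonoidHom), ?_⟩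
  rw [exteriorPower.ιMulti_family, exteriorPower.ιMulti_family, mulExt_ιMulti]
  have he : join h (b ∘ ofFinEmbEquiv.symm t) (b ∘ ofFinEmbEquiv.symm (cpl h t)) = b ∘ Equiv.ofBijective g hg := by
    funext i
    show Fin.append (b ∘ _) (b ∘ _) (Fin.cast h.symm i) = b (Fin.append _ _ (Fin.cast h.symm i))
    generalize Fin.cast h.symm i = j
    refine Fin.addCases (fun x => ?_) (fun x => ?_) j <;> simp
  refine (congrArg _ he).trans ?_
  rw [AlternatingMap.map_perm]
  simp [Units.smul_def, ← Int.cast_smul_eq_zsmul R]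

/-- **The pairing is perfect.** -/
theorem bijective_pair (h : q + p = n) :
    Function.Bijective fun (x : ⋀[R]^q M) (s : Set.powersetCard (Fin n) p) =>
      mulExt h x (exteriorPower.ιMulti_family R p b s) := by
  classical
  choose w hw using exists_mulExt_cpl b h
  have hval : ∀ (x : ⋀[R]^q M) (s : Set.powersetCard (Fin n) p),
      mulExt h x (exteriorPower.ιMulti_family R p b s) =
        ((b.exteriorPower q).repr x ((cpl h).symm s) * (w ((cpl h).symm s) : R)) • exteriorPower.ιMulti R n ⇑b := by
    intro x s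
    conv_lhs => rw [← (b.exteriorPower q).sum_repr x]
    rw [map_sum, LinearMap.sum_apply, Finset.sum_eq_single ((cpl h).symm s)]
    · rw [map_smul, LinearMap.smul_apply, exteriorPower.coe_basis]
      conv_lhs => arg 2; arg 2; rw [← (cpl h).apply_symm_apply s]
      rw [hw, smul_smul]
    · intro t _ ht
      rw [map_smul, LinearMap.smul_apply, exteriorPower.coe_basis, mulExt_family_ne b h t s
        (fun hs => ht ((cpl h).injective (by rw [← hs, Equiv.apply_symm_apply]))), smul_zero]
    · intro hs
      exact absurd (Finset.mem_univ _) hs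
  have htop := FundLocal.bijective_smul_ιMulti b
  refine ⟨fun x y hxy => (b.exteriorPower q).repr.injective (Finsupp.ext fun t => ?_), fun y => ?_⟩
  · have h1 := congrFun hxy (cpl h t)
    dsimp only at h1
    rw [hval, hval, Equiv.symm_apply_apply] at h1
    exact (w t).isUnit.mul_left_injective (htop.1 h1)
  · choose c hc using fun s => htop.2 (y s)
    refine ⟨(b.exteriorPower q).equivFun.symm fun t => c (cpl h t) * ((w t)⁻¹ : Rˣ), funext fun s => ?_⟩
    dsimp only
    rw [hval, ← Basis.equivFun_apply, LinearEquiv.apply_symm_apply, Equiv.apply_symm_apply, mul_assoc, Units.inv_mul, mul_one]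
    exact hc s

end Groth.Agent.HodgeSym
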