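import Groth.Agent.HodgeSym.Alg
import Groth.Agent.AdjForm.QBasis
import Groth.Agent.AdjForm.ExtExists
import Groth.Agent.HilbLoc.ModData
import Groth.Agent.HilbLoc.ConormalFree
import Groth.Agent.NegVanish.LocFree
import Groth.Agent.QCohLib.Cover
import Groth.Agent.DCohPerf.Coherent
import Groth.Agent.InvPow.Resolution

/-!
# Complementary exterior powers of a locally free module are dual
-/

set_option autoImplicit false
set_option linter.style.haveILetI false
set_option linter.unusedSectionVars false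
set_option maxHeartbeats 1000000

universe u

open CategoryTheory Opposite AlgebraicGeometry TopologicalSpace MonoidalCategory
open Groth.Agent.ModGroth

namespace Groth.Agent.HodgeSym

variable {X : Scheme.{u}} {p q n : ℕ} {E A L ω : X.Modules}

/-- The compatibility in the definition of exterior powers. -/
abbrev Compat {i : ℕ} (L : X.Modules)
    (φ : ∀ U : X.affineOpens, (L.val.obj (op U.1)) ≃ₗ[Γ(X, U.1)] ↥(⋀[Γ(X, U.1)]^i (E.val.obj (op U.1)))) : Prop :=
  ∀ (U V : X.affineOpens) (h : V.1 ≤ U.1) (e : Fin i → E.val.obj (op U.1)),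
    L.val.map (homOfLE h).op ((φ U).symm (exteriorPower.ιMulti _ i e)) =
      (φ V).symm (exteriorPower.ιMulti _ i (fun j => E.val.map (homOfLE h).op (e j)))

/-- The structure equivalence, on sections. -/
noncomputable def ee {i : ℕ} {L : X.Modules}
    (φ : ∀ U : X.affineOpens, (L.val.obj (op U.1)) ≃ₗ[Γ(X, U.1)] ↥(⋀[Γ(X, U.1)]^i (E.val.obj (op U.1))))
    (U : X.affineOpens) : Γ(L, U.1) ≃ₗ[Γ(X, U.1)] AdjForm.ext E i U.1 := φ U

lemma map_phi {i : ℕ} {L : X.Modules}
    {φ : ∀ U : X.affineOpens, (L.val.obj (op U.1)) ≃ₗ[Γ(X, U.1)] ↥(⋀[Γ(X, U.1)]^i (E.val.obj (op U.1)))}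
    (hφ : Compat L φ) (U V : X.affineOpens) (h : V.1 ≤ U.1) (z : AdjForm.ext E i U.1) :
    L.presheaf.map (homOfLE h).op ((ee φ U).symm z) = (ee φ V).symm (AdjForm.extRes E i h z) := by
  refine AdjForm.ext_induction E i (p := fun z => L.presheaf.map (homOfLE h).op ((ee φ U).symm z) =
    (ee φ V).symm (AdjForm.extRes E i h z)) z ?_ (fun e => ?_) (fun a b ha hb => ?_) (fun c a ha => ?_)
  · rw [map_zero, map_zero, map_zero, map_zero]
  · rw [AdjForm.extRes_ιMulti]
    exact hφ U V h e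
  · rw [map_add, map_add, map_add, map_add, ha, hb]
  · rw [map_smul, Scheme.Modules.map_smul, AdjForm.extRes_smul, ha]
    exact ((ee φ V).symm.map_smul _ _).symm

variable (hpq : q + p = n)

lemma extRes_mulExt {U V : X.Opens} (h : V ≤ U) (x : AdjForm.ext E q U) (y : AdjForm.ext E p U) :
    AdjForm.extRes E n h (mulExt hpq x y) = mulExt hpq (AdjForm.extRes E q h x) (AdjForm.extRes E p h y) := by
  refine AdjForm.ext_induction E q (p := fun x => AdjForm.extRes E n h (mulExt hpq x y) =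
    mulExt hpq (AdjForm.extRes E q h x) (AdjForm.extRes E p h y)) x (by simp) (fun a => ?_)
    (fun a b ha hb => by simp [ha, hb]) (fun c a ha => by simp [ha])
  refine AdjForm.ext_induction E p (p := fun y => AdjForm.extRes E n h (mulExt hpq (exteriorPower.ιMulti _ q a) y) =
    mulExt hpq (AdjForm.extRes E q h (exteriorPower.ιMulti _ q a)) (AdjForm.extRes E p h y)) y (by simp) (fun c => ?_)
    (fun a b ha hb => by simp [ha, hb]) (fun c a ha => by simp [ha])
  rw [mulExt_ιMulti, AdjForm.extRes_ιMulti, AdjForm.extRes_ιMulti, AdjForm.extRes_ιMulti, mulExt_ιMulti]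
  refine congrArg _ (funext fun i => ?_)
  dsimp only [join, Function.comp_apply]
  generalize Fin.cast hpq.symm i = j
  refine Fin.addCases (fun x => ?_) (fun x => ?_) j <;> simp

variable
  (φA : ∀ U : X.affineOpens, (A.val.obj (op U.1)) ≃ₗ[Γ(X, U.1)] ↥(⋀[Γ(X, U.1)]^q (E.val.obj (op U.1))))
  (φL : ∀ U : X.affineOpens, (L.val.obj (op U.1)) ≃ₗ[Γ(X, U.1)] ↥(⋀[Γ(X, U.1)]^p (E.val.obj (op U.1))))
  (φω : ∀ U : X.affineOpens, (ω.val.obj (op U.1)) ≃ₗ[Γ(X, U.1)] ↥(⋀[Γ(X, U.1)]^n (E.val.obj (op U.1))))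
  (hA : Compat A φA) (hL : Compat L φL) (hω : Compat ω φω)

/-- The wedge pairing on affine opens. -/
noncomputable def mu (W : X.affineOpens) (a : Γ(A, W.1)) (x : Γ(L, W.1)) : Γ(ω, W.1) :=
  (ee φω W).symm (mulExt hpq (ee φA W a) (ee φL W x))

lemma mu_add_left (W : X.affineOpens) (a a' : Γ(A, W.1)) (x : Γ(L, W.1)) :
    mu hpq φA φL φω W (a + a') x = mu hpq φA φL φω W a x + mu hpq φA φL φω W a' x := by
  simp [mu, map_add, map_smul]

lemma mu_add_right (W : X.affineOpens) (a : Γ(A, W.1)) (x x' : Γ(L, W.1)) :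
    mu hpq φA φL φω W a (x + x') = mu hpq φA φL φω W a x + mu hpq φA φL φω W a x' := by
  simp [mu, map_add, map_smul]

lemma mu_smul_left (W : X.affineOpens) (c : Γ(X, W.1)) (a : Γ(A, W.1)) (x : Γ(L, W.1)) :
    mu hpq φA φL φω W (c • a) x = c • mu hpq φA φL φω W a x := by
  simp [mu, map_add, map_smul]

lemma mu_smul_right (W : X.affineOpens) (c : Γ(X, W.1)) (a : Γ(A, W.1)) (x : Γ(L, W.1)) :
    mu hpq φA φL φω W a (c • x) = c • mu hpq φA φL φω W a x := by
  simp [mu, map_add, map_smul]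

include hA hL hω in
lemma mu_res (W W' : X.affineOpens) (h : W'.1 ≤ W.1) (a : Γ(A, W.1)) (x : Γ(L, W.1)) :
    ω.presheaf.map (homOfLE h).op (mu hpq φA φL φω W a x) =
      mu hpq φA φL φω W' (A.presheaf.map (homOfLE h).op a) (L.presheaf.map (homOfLE h).op x) := by
  unfold mu
  obtain ⟨a, rfl⟩ := (ee φA W).symm.surjective a
  obtain ⟨x, rfl⟩ := (ee φL W).symm.surjective x
  rw [map_phi hω, map_phi hA, map_phi hL, LinearEquiv.apply_symm_apply, LinearEquiv.apply_symm_apply,
    LinearEquiv.apply_symm_apply, LinearEquiv.apply_symm_apply, extRes_mulExt]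

include hA hL hω in
lemma exists_glob (V : X.Opens) (a : Γ(A, V)) (x : Γ(L, V)) : ∃ t : Γ(ω, V), ∀ (W : X.affineOpens) (hW : W.1 ≤ V),
    ω.presheaf.map (homOfLE hW).op t =
      mu hpq φA φL φω W (A.presheaf.map (homOfLE hW).op a) (L.presheaf.map (homOfLE hW).op x) := by
  obtain ⟨t, ht, -⟩ := TopCat.Sheaf.existsUnique_gluing' (HilbLoc.shf ω)
    (fun W : {W : X.affineOpens // W.1 ≤ V} => W.1.1) V (fun W => homOfLE W.2) (fun y hy => by
      obtain ⟨_, ⟨W, hW, rfl⟩, hyW, hWV⟩ := X.isBasis_affineOpens.exists_subset_of_mem_open hy V.2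
      exact Opens.mem_iSup.2 ⟨⟨⟨W, hW⟩, hWV⟩, hyW⟩)
    (fun W => mu hpq φA φL φω W.1 (A.presheaf.map (homOfLE W.2).op a) (L.presheaf.map (homOfLE W.2).op x))
    (fun W₁ W₂ => by
      change ω.presheaf.map (homOfLE inf_le_left).op _ = ω.presheaf.map (homOfLE inf_le_right).op _
      refine HilbLoc.sect_ext ω fun W hW => ?_
      rw [QCohLib.map_map, QCohLib.map_map, mu_res hpq φA φL φω hA hL hω W₁.1 W (hW.trans inf_le_left),
        mu_res hpq φA φL φω hA hL hω W₂.1 W (hW.trans inf_le_right), QCohLib.map_map, QCohLib.map_map,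
        QCohLib.map_map, QCohLib.map_map])
  exact ⟨t, fun W hW => ht ⟨W, hW⟩⟩

/-- The pairing on all opens. -/
noncomputable def glob (V : X.Opens) (a : Γ(A, V)) (x : Γ(L, V)) : Γ(ω, V) :=
  (exists_glob hpq φA φL φω hA hL hω V a x).choose

lemma glob_spec {V : X.Opens} (a : Γ(A, V)) (x : Γ(L, V)) (W : X.affineOpens) (hW : W.1 ≤ V) :
    ω.presheaf.map (homOfLE hW).op (glob hpq φA φL φω hA hL hω V a x) =
      mu hpq φA φL φω W (A.presheaf.map (homOfLE hW).op a) (L.presheaf.map (homOfLE hW).op x) :=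
  (exists_glob hpq φA φL φω hA hL hω V a x).choose_spec W hW

lemma glob_self (W : X.affineOpens) (a : Γ(A, W.1)) (x : Γ(L, W.1)) :
    glob hpq φA φL φω hA hL hω W.1 a x = mu hpq φA φL φω W a x := by
  have h := glob_spec hpq φA φL φω hA hL hω a x W le_rfl
  rwa [QCohLib.map_self, QCohLib.map_self, QCohLib.map_self] at h

/-- The pairing, linearly. -/
noncomputable def globLin (V : X.Opens) : Γ(A, V) →ₗ[Γ(X, V)] Γ(L, V) →ₗ[Γ(X, V)] Γ(ω, V) :=
  LinearMap.mk₂ Γ(X, V) (glob hpq φA φL φω hA hL hω V)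
    (fun a a' x => HilbLoc.sect_ext ω fun W hW => by
      rw [map_add, glob_spec, glob_spec, glob_spec, map_add, mu_add_left])
    (fun c a x => HilbLoc.sect_ext ω fun W hW => by
      rw [Scheme.Modules.map_smul, glob_spec, glob_spec, Scheme.Modules.map_smul, mu_smul_left])
    (fun a x x' => HilbLoc.sect_ext ω fun W hW => by
      rw [map_add, glob_spec, glob_spec, glob_spec, map_add, mu_add_right])
    (fun c a x => HilbLoc.sect_ext ω fun W hW => by
      rw [Scheme.Modules.map_smul, glob_spec, glob_spec, Scheme.Modules.map_smul, mu_smul_right])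

lemma globLin_res {V V' : X.Opens} (h : V' ≤ V) (a : Γ(A, V)) (x : Γ(L, V)) :
    globLin hpq φA φL φω hA hL hω V' (A.presheaf.map (homOfLE h).op a) (L.presheaf.map (homOfLE h).op x) =
      ω.presheaf.map (homOfLE h).op (globLin hpq φA φL φω hA hL hω V a x) :=
  HilbLoc.sect_ext ω fun W hW => by
    show ω.presheaf.map _ (glob hpq φA φL φω hA hL hω V' _ _) = ω.presheaf.map _ (ω.presheaf.map _ (glob hpq φA φL φω hA hL hω V a x))
    rw [QCohLib.map_map, glob_spec, glob_spec, QCohLib.map_map, QCohLib.map_map]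

/-- The pairing as a morphism of presheaves of modules. -/
noncomputable def pairHom : (fg X.sheaf).obj A ⊗ (fg X.sheaf).obj L ⟶ (fg X.sheaf).obj ω where
  app V := ModuleCat.ofHom (TensorProduct.lift (globLin hpq φA φL φω hA hL hω V.unop))
  naturality {V V'} i := ModuleCat.MonoidalCategory.tensor_ext fun a x => globLin_res hpq φA φL φω hA hL hω i.unop.le a x

variable [ModSite.HasSheafHom (O := X.sheaf) L]

include hA hL hω in
lemma exists_psi : ∃ ψ : A ⟶ (ModSite.sheafHom (O := X.sheaf) L).obj ω, ∀ (W : X.affineOpens) (a : Γ(A, W.1)) (x : Γ(L, W.1)),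
    LocBasis.evSec (O := X.sheaf) L ω (ψ.app W.1 a) x = mu hpq φA φL φω W a x := by
  obtain ⟨σ, hσ⟩ := (LocBasis.bijective_uncurryP (O := X.sheaf) L ω ((fg X.sheaf).obj A)).2
    (pairHom hpq φA φL φω hA hL hω)
  refine ⟨⟨σ⟩, fun W a x => ?_⟩
  have h := congrArg (fun t : (fg X.sheaf).obj A ⊗ (fg X.sheaf).obj L ⟶ (fg X.sheaf).obj ω =>
    t.app (op W.1) (a ⊗ₜ[X.sheaf.obj.obj (op W.1)] x)) hσ
  exact h.trans (glob_self hpq φA φL φω hA hL hω W a x)

section Frame

variable [E.IsQuasicoherent] {i : ℕ} {M : X.Modules}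
  (φM : ∀ U : X.affineOpens, (M.val.obj (op U.1)) ≃ₗ[Γ(X, U.1)] ↥(⋀[Γ(X, U.1)]^i (E.val.obj (op U.1))))
  {U : X.Opens} (hU : IsAffineOpen U) (b : Module.Basis (Fin n) Γ(X, U) Γ(E, U))

/-- The number of wedges of basis vectors. -/
abbrev cnt (n i : ℕ) : ℕ := Fintype.card (Set.powersetCard (Fin n) i)

/-- The wedges of basis vectors. -/
noncomputable def frameSect (k : Fin (cnt n i)) : Γ(M, U) :=
  (ee φM ⟨U, hU⟩).symm (exteriorPower.ιMulti_family Γ(X, U) i b ((Fintype.equivFin _).symm k))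

variable (hM : Compat M φM)

include hM in
lemma frameSect_res {W : X.Opens} (hW : W ≤ U) (hWa : IsAffineOpen W) (b' : Module.Basis (Fin n) Γ(X, W) Γ(E, W))
    (hb' : ∀ j, b' j = E.presheaf.map (homOfLE hW).op (b j)) (k : Fin (cnt n i)) :
    M.presheaf.map (homOfLE hW).op (frameSect φM hU b k) = frameSect φM hWa b' k := by
  refine (map_phi hM ⟨U, hU⟩ ⟨W, hWa⟩ hW _).trans (congrArg (ee φM ⟨W, hWa⟩).symm ?_)
  rw [exteriorPower.ιMulti_family, AdjForm.extRes_ιMulti, exteriorPower.ιMulti_family]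
  exact congrArg _ (funext fun j => (hb' _).symm)

lemma frameSect_bijective :
    Function.Bijective fun c : Fin (cnt n i) → Γ(X, U) => ∑ k, c k • frameSect φM hU b k := by
  let B := ((b.exteriorPower i).reindex (Fintype.equivFin _)).map (ee φM ⟨U, hU⟩).symm
  have hB : ∀ k, B k = frameSect φM hU b k := fun k => by
    simp [B, frameSect, exteriorPower.coe_basis]
  refine (congrArg Function.Bijective (funext fun c => ?_)).mp B.equivFun.symm.bijective
  rw [Module.Basis.equivFun_symm_apply]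
  exact Finset.sum_congr rfl fun k _ => by rw [hB]

include hM in
lemma frameSect_bijective_res (W : X.affineOpens) (hW : W.1 ≤ U) :
    Function.Bijective fun c : Fin (cnt n i) → Γ(X, W.1) =>
      ∑ k, c k • M.presheaf.map (homOfLE hW).op (frameSect φM hU b k) := by
  obtain ⟨b', hb'⟩ := AdjForm.exists_basis_res E hU b hW
  refine (congrArg Function.Bijective (funext fun c => ?_)).mp (frameSect_bijective φM W.2 b')
  exact Finset.sum_congr rfl fun k _ => congrArg (c k • ·) (frameSect_res φM hU b hM hW W.2 b' hb' k).symm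

include hM in
theorem isFinLocFree_extPow (hE : ∀ x : X, ∃ U : X.Opens, x ∈ U ∧ IsAffineOpen U ∧
    Nonempty (Module.Basis (Fin n) Γ(X, U) Γ(E, U))) : FlatMod.IsFinLocFree M :=
  HilbLoc.isFinLocFree_of_affine_basis M fun x => by
    obtain ⟨U, hx, hU, ⟨b⟩⟩ := hE x
    exact ⟨U, _, frameSect φM hU b, hx, frameSect_bijective_res φM hU b hM⟩

/-- Combinations of the frame. -/
noncomputable def frameMap {V : X.Opens} (h : V ≤ U) : (Fin (cnt n i) → Γ(X, V)) →+ Γ(M, V) :=
  AddMonoidHom.mk' (fun c => ∑ j, c j • M.presheaf.map (homOfLE h).op (frameSect φM hU b j))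
    fun c c' => by
      rw [← Finset.sum_add_distrib]
      exact Finset.sum_congr rfl fun j _ => add_smul _ _ _

include hM in
lemma isBasis_frameSect : LocBasis.IsBasis (O := X.sheaf) M (frameSect φM hU b) := by
  intro W h
  let Φ : ∀ (V : X.Opens), (V ⟶ U) → ((Fin (cnt n i) → ((fg X.sheaf).obj (ModSite.unit X.sheaf)).obj (op V)) →+
      ((fg X.sheaf).obj M).obj (op V)) := fun V k => frameMap φM hU b k.le
  have nat : ∀ {V V' : X.Opens} (hV : V' ≤ V) (k : V ⟶ U) (c : Fin (cnt n i) → Γ(X, V)),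
      (∑ j, X.presheaf.map (homOfLE hV).op (c j) • M.presheaf.map (homOfLE (hV.trans k.le)).op (frameSect φM hU b j)) =
        M.presheaf.map (homOfLE hV).op (∑ j, c j • M.presheaf.map (homOfLE k.le).op (frameSect φM hU b j)) := by
    intro V V' hV k c
    rw [map_sum]
    exact Finset.sum_congr rfl fun j _ => by rw [Scheme.Modules.map_smul, QCohLib.map_map]
  let S : ∀ V : X.Opens, Sieve V := fun V =>
    ⟨fun A _ => ∃ B : X.affineOpens, B.1 ≤ V ∧ A ≤ B.1, fun {A A'} _ ⟨B, hB, hA⟩ g => ⟨B, hB, g.le.trans hA⟩⟩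
  have hS : ∀ V : X.Opens, S V ∈ Opens.grothendieckTopology X V := fun V y hy => by
    obtain ⟨B, hB, hyB, hBV⟩ := exists_isAffineOpen_mem_and_subset (U := V) hy
    exact ⟨B, homOfLE hBV, ⟨⟨B, hB⟩, hBV, le_rfl⟩, hyB⟩
  have key := LocBasis.bijective_of_locally (O := X.sheaf) (ModSite.unit X.sheaf) M Φ
    (fun {V' V} k g c => nat k.le g c)
    (fun V g (c : Fin (cnt n i) → Γ(X, V)) hc => ⟨S V, hS V, fun V' k ⟨B, hBV, hV'B⟩ j => by
      have h1 : (fun j => X.presheaf.map (homOfLE hBV).op (c j)) = 0 :=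
        (frameSect_bijective_res φM hU b hM B (hBV.trans g.le)).1 (by
          refine (nat hBV g c).trans ?_
          rw [show (∑ j, c j • M.presheaf.map (homOfLE g.le).op (frameSect φM hU b j)) = 0 from hc, map_zero]
          simp)
      show X.presheaf.map (homOfLE k.le).op (c j) = 0
      rw [show homOfLE k.le = homOfLE hV'B ≫ homOfLE hBV from rfl, op_comp, Functor.map_comp, ConcreteCategory.comp_apply,
        congrFun h1 j]
      exact map_zero _⟩)
    (fun V g t => ⟨S V, hS V, fun V' k ⟨B, hBV, hV'B⟩ => by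
      obtain ⟨c, hc⟩ := (frameSect_bijective_res φM hU b hM B (hBV.trans g.le)).2 (M.presheaf.map (homOfLE hBV).op t)
      refine ⟨fun j => X.presheaf.map (homOfLE hV'B).op (c j), ?_⟩
      refine (nat hV'B (homOfLE (hBV.trans g.le)) c).trans ?_
      refine (congrArg (M.presheaf.map (homOfLE hV'B).op) hc).trans ?_
      exact QCohLib.map_map M _ _ t⟩) W h
  refine (congrArg Function.Bijective (funext fun c => ?_)).mp key
  refine Eq.trans ?_ (Fintype.linearCombination_apply _ _ c).symm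
  rfl

end Frame

include hpq hA hL hω in
/-- **Complementary exterior powers are dual.** -/
theorem nonempty_iso [E.IsQuasicoherent]
    (hE : ∀ x : X, ∃ U : X.Opens, x ∈ U ∧ IsAffineOpen U ∧ Nonempty (Module.Basis (Fin n) Γ(X, U) Γ(E, U)))
    (hωinv : PicF.IsInvertible ω) :
    Nonempty (A ≅ (ModSite.sheafHom (O := X.sheaf) L).obj ω) := by
  obtain ⟨ψ, hψ⟩ := exists_psi hpq φA φL φω hA hL hω
  haveI : A.IsQuasicoherent := (DCohPerf.isCoh_finLocFree (isFinLocFree_extPow φA hA hE)).1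
  haveI : ((ModSite.sheafHom (O := X.sheaf) L).obj ω).IsQuasicoherent :=
    (DCohPerf.isCoh_finLocFree (NegVanish.isFinLocFree_homX (isFinLocFree_extPow φL hL hE) hωinv)).1
  choose U hxU hU b using hE
  haveI : IsIso ψ := QCohLib.isIso_of_cover_bijective U hU (fun x => ⟨x, hxU x⟩) ψ fun x => by
    let W : X.affineOpens := ⟨U x, hU x⟩
    have hev := LocBasis.bijective_evSec (O := X.sheaf) L ω (isBasis_frameSect φL (hU x) (b x).some hL)
    refine (Function.Bijective.of_comp_iff' hev _).mp ?_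
    let e := Fintype.equivFin (Set.powersetCard (Fin n) p)
    have h1 := (((Equiv.arrowCongr e (ee φω W).symm.toEquiv).bijective.comp (bijective_pair (b x).some hpq)).comp
      (ee φA W).bijective)
    refine (congrArg Function.Bijective (funext fun a => funext fun k => ?_)).mp h1
    refine Eq.trans ?_ (hψ W a (frameSect φL (hU x) (b x).some k)).symm
    unfold mu frameSect
    rw [LinearEquiv.apply_symm_apply]
    rfl
  exact ⟨asIso ψ⟩

end Groth.Agent.HodgeSym
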