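import Groth.Agent.HodgeSym.Twist
import Groth.Agent.CohDual.ClosedTwist
import Groth.Agent.CohDual.ExtShProj
import Groth.Agent.AdjForm.Frame
import Groth.Agent.AdjForm.SmoothDual
import Groth.Agent.S2926

/-!
# Twists on projective space, for the symmetry of Hodge numbers
-/

set_option autoImplicit false
set_option linter.style.haveILetI false

universe u

open CategoryTheory Opposite AlgebraicGeometry

namespace Groth.Agent.HodgeSym

variable (r : ℕ) (k : Type u) [Field k]

/-- Twists are inverse to each other. -/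
theorem nonempty_twistProjSpace_inverse (d : ℤ) :
    Nonempty (CohB1.tensorMod (Twist.twistProjSpace r k d) (Twist.twistProjSpace r k (-d)) ≅
      Coh.structureModule (CohB1.ProjSpace r k)) :=
  CohDual.nonempty_twist_tensor_inverse r k d

/-- Twists are inverse to each other, on the other side. -/
theorem nonempty_twistProjSpace_inverse' (d : ℤ) :
    Nonempty (CohB1.tensorMod (Twist.twistProjSpace r k (-d)) (Twist.twistProjSpace r k d) ≅
      Coh.structureModule (CohB1.ProjSpace r k)) := by
  have h := nonempty_twistProjSpace_inverse r k (-d)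
  rwa [neg_neg] at h

variable {r k}

/-- Duality for a module isomorphic to the canonical twist. -/
theorem nonempty_dual_iso {ω : (CohB1.ProjSpace r k).Modules} (F : (CohB1.ProjSpace r k).Modules)
    [DCoh.HasSheafHom F] (hF : FlatMod.IsFinLocFree F) (q : ℕ) (hq : q ≤ r)
    (eω : ω ≅ Twist.twistProjSpace r k (-((r : ℤ) + 1))) :
    Nonempty (Module.Dual k (Coh.HH (CohB1.ProjSpace r k) F q) ≃ₗ[k]
      Coh.HH (CohB1.ProjSpace r k) ((DCoh.sheafHom F).obj ω) (r - q)) := by
  obtain ⟨e1⟩ := Groth.Agent.S2926.result k r F hF q hq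
  obtain ⟨e2⟩ := SSExist.nonempty_HH_linearEquiv_of_iso (A := k) ((DCoh.sheafHom F).mapIso eω.symm) (r - q)
  exact ⟨e1.trans e2⟩

/-- Frames of differentials. -/
theorem exists_bases {S P : Scheme.{u}} (g : P ⟶ S) [QuasiSeparated g] (n : ℕ) [SmoothOfRelativeDimension n g] (x : P) :
    ∃ U : P.Opens, x ∈ U ∧ IsAffineOpen U ∧ Nonempty (Module.Basis (Fin n) Γ(P, U) Γ(Omega.sheaf g, U)) := by
  obtain ⟨W, hxW, -, hW, -, hb⟩ := AdjForm.exists_frame g n x ⊤ trivial
  exact ⟨W, hxW, hW, hb⟩

end Groth.Agent.HodgeSym
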