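import Groth.Agent.HodgeSym.Pair
import Groth.Prelude.Def_KLin

/-!
# Duals of twisted modules
-/

set_option autoImplicit false
set_option linter.style.haveILetI false

universe u

open CategoryTheory Opposite AlgebraicGeometry
open Groth.Agent.ModGroth

namespace Groth.Agent.HodgeSym

variable {X : Scheme.{u}}

/-- `Hom(L ⊗ B, ω) ≅ Hom(L, ω) ⊗ A` for `A` inverse to `B`. -/
theorem nonempty_hom_tensor_inverse (L A B ω : X.Modules)
    (eAB : CohB1.tensorMod A B ≅ Coh.structureModule X) (eBA : CohB1.tensorMod B A ≅ Coh.structureModule X)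
    [ModSite.HasSheafHom (O := X.sheaf) L] [ModSite.HasSheafHom (O := X.sheaf) (CohB1.tensorMod L B)]
    [DCoh.HasSheafHom (CohB1.tensorMod L B)] :
    Nonempty ((DCoh.sheafHom (CohB1.tensorMod L B)).obj ω ≅
      CohB1.tensorMod ((ModSite.sheafHom (O := X.sheaf) L).obj ω) A) := by
  let u0 : unitObj X.sheaf ≅ ModSite.unit X.sheaf :=
    haveI : IsIso (adjn X.sheaf).counit :=
      inferInstanceAs (IsIso (PresheafOfModules.sheafificationAdjunction (𝟙 (ModSite.ringSh X.sheaf).obj)).counit)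
    (asIso (adjn X.sheaf).counit).app (ModSite.unit X.sheaf)
  let eAB' : ((ModSite.tensorBi X.sheaf).obj A).obj B ≅ unitObj X.sheaf := eAB ≪≫ u0.symm
  let eBA' : ((ModSite.tensorBi X.sheaf).obj B).obj A ≅ unitObj X.sheaf := eBA ≪≫ u0.symm
  let T := ProjCoh.tensorEquivalence A B eAB' eBA'
  let β : ModSite.sheafHom (O := X.sheaf) (CohB1.tensorMod L B) ≅ tR A ⋙ ModSite.sheafHom (O := X.sheaf) L :=
    (ModSite.sheafHomAdj (O := X.sheaf) (CohB1.tensorMod L B)).rightAdjointUniq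
      (((ModSite.sheafHomAdj (O := X.sheaf) L).comp T.toAdjunction).ofNatIsoLeft
        (tensorAssoc (O := X.sheaf) L B).symm)
  obtain ⟨etw⟩ := NegVanish.nonempty_sheafHom_twist (O := X.sheaf) L A B eAB' eBA' ω
  exact ⟨((SSExist.homXIso (CohB1.tensorMod L B)).app ω).symm ≪≫ β.app ω ≪≫ etw⟩

/-- The symmetry of twisted complementary exterior powers under a duality. -/
theorem finrank_twist_symm {k : Type u} [Field k] [X.Over (Spec (CommRingCat.of k))] {p q r : ℕ} {E L L' ω₀ A B : X.Modules}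
    [E.IsQuasicoherent]
    (hE : ∀ x : X, ∃ U : X.Opens, x ∈ U ∧ IsAffineOpen U ∧ Nonempty (Module.Basis (Fin r) Γ(X, U) Γ(E, U)))
    (hp : p ≤ r) (hL : ExtPow.IsExtPow p E L) (hL' : ExtPow.IsExtPow (r - p) E L')
    (hω : ExtPow.IsExtPow r E ω₀) (hωinv : PicF.IsInvertible ω₀) (hB : FlatMod.IsFinLocFree B)
    (eAB : CohB1.tensorMod A B ≅ Coh.structureModule X) (eBA : CohB1.tensorMod B A ≅ Coh.structureModule X)
    (hdual : ∀ (F : X.Modules) [DCoh.HasSheafHom F], FlatMod.IsFinLocFree F →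
      Nonempty (Module.Dual k (Coh.HH X F q) ≃ₗ[k] Coh.HH X ((DCoh.sheafHom F).obj ω₀) (r - q))) :
    Module.finrank k (Coh.HH X (CohB1.tensorMod L B) q) = Module.finrank k (Coh.HH X (CohB1.tensorMod L' A) (r - q)) := by
  obtain ⟨φL, hφL⟩ := hL
  obtain ⟨φA, hφA⟩ := hL'
  obtain ⟨φω, hφω⟩ := hω
  haveI : ModSite.HasSheafHom (O := X.sheaf) L := hasSheafHom (O := X.sheaf) L
  haveI : ModSite.HasSheafHom (O := X.sheaf) (CohB1.tensorMod L B) := hasSheafHom (O := X.sheaf) (CohB1.tensorMod L B)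
  haveI : DCoh.HasSheafHom (CohB1.tensorMod L B) :=
    ((ModSite.sheafHomAdj (O := X.sheaf) (CohB1.tensorMod L B)).ofNatIsoLeft
      (tensorSymm (O := X.sheaf) (CohB1.tensorMod L B)).symm).isLeftAdjoint
  obtain ⟨ep⟩ := nonempty_iso (Nat.sub_add_cancel hp) φA φL φω hφA hφL hφω hE hωinv
  obtain ⟨e1⟩ := hdual (CohB1.tensorMod L B)
    (ModGroth.Perf.isFinLocFree_tensor (isFinLocFree_extPow φL hφL hE) hB)
  obtain ⟨etw⟩ := nonempty_hom_tensor_inverse L A B ω₀ eAB eBA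
  obtain ⟨e2⟩ := SSExist.nonempty_HH_linearEquiv_of_iso (A := k)
    (etw ≪≫ (tR (O := X.sheaf) A).mapIso ep.symm) (r - q)
  rw [← Subspace.dual_finrank_eq]
  exact (e1.trans e2).finrank_eq

end Groth.Agent.HodgeSym
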